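import Mathlib
import Groth.Agent.LocalCrit.Complete

/-!
# Adically complete modules over Noetherian rings
-/

noncomputable section

namespace Groth.Agent.Adic7

universe u v w

open TensorProduct

variable {A : Type u} [CommRing A] (I : Ideal A)

theorem isPrecomplete_of_finite [IsPrecomplete I A] (M : Type v) [AddCommGroup M] [Module A M]
    [Module.Finite A M] : IsPrecomplete I M := by
  refine AdicCompletion.of_surjective_iff.mp fun z => ?_
  obtain ⟨t, rfl⟩ := AdicCompletion.ofTensorProduct_surjective_of_finite I M z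
  induction t with
  | zero => exact ⟨0, by simp⟩
  | tmul r x =>
    obtain ⟨a, rfl⟩ := AdicCompletion.of_surjective I A r
    refine ⟨a • x, ?_⟩
    rw [AdicCompletion.ofTensorProduct_tmul, map_smul]
    refine AdicCompletion.ext fun n => ?_
    rfl
  | add x y hx hy =>
    obtain ⟨a, ha⟩ := hx
    obtain ⟨b, hb⟩ := hy
    exact ⟨a + b, by rw [map_add, map_add, ha, hb]⟩

theorem isHausdorff_of_injective {M : Type v} {N : Type w} [AddCommGroup M] [Module A M] [AddCommGroup N]
    [Module A N] [IsHausdorff I N] (f : M →ₗ[A] N) (hf : Function.Injective f) : IsHausdorff I M := by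
  refine ⟨fun x hx => hf ?_⟩
  rw [map_zero]
  refine IsHausdorff.haus ‹IsHausdorff I N› _ fun n => ?_
  rw [SModEq.zero]
  have := Submodule.mem_map_of_mem (f := f) (SModEq.zero.mp (hx n))
  rw [Submodule.map_smul''] at this
  exact Submodule.smul_mono le_rfl le_top this

theorem isAdicComplete_of_finite [IsNoetherianRing A] [IsAdicComplete I A] (M : Type v) [AddCommGroup M]
    [Module A M] [Module.Finite A M] : IsAdicComplete I M :=
  { toIsHausdorff := IsHausdorff.of_le_jacobson I M (IsAdicComplete.le_jacobson_bot I)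
    toIsPrecomplete := isPrecomplete_of_finite I M }

theorem isAdicComplete_of_projective [IsAdicComplete I A] (M : Type v) [AddCommGroup M]
    [Module A M] [Module.Finite A M] [Module.Projective A M] : IsAdicComplete I M := by
  obtain ⟨n, p, hp⟩ := Module.Finite.exists_fin' A M
  obtain ⟨s, hs⟩ := Module.projective_lifting_property p LinearMap.id hp
  have hF : IsHausdorff I (Fin n → A) := ⟨fun x hx => funext fun i => by
    refine IsHausdorff.haus (‹IsAdicComplete I A›).toIsHausdorff _ fun k => ?_
    rw [SModEq.zero]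
    have := Submodule.mem_map_of_mem (f := LinearMap.proj (R := A) (φ := fun _ : Fin n => A) i) (SModEq.zero.mp (hx k))
    rw [Submodule.map_smul''] at this
    exact Submodule.smul_mono le_rfl le_top this⟩
  exact { toIsHausdorff := isHausdorff_of_injective I s (fun x y h => by
            have hx : p (s x) = x := congr($hs x)
            have hy : p (s y) = y := congr($hs y)
            rw [← hx, ← hy, h])
          toIsPrecomplete := isPrecomplete_of_finite I M }

theorem isAdicComplete_quotient [IsNoetherianRing A] (B : Type v) [CommRing B] [Algebra A B]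
    [IsAdicComplete (I.map (algebraMap A B)) B] (hB : Algebra.FiniteType A (B ⧸ I.map (algebraMap A B)))
    (J : Ideal B) : IsAdicComplete (I.map (algebraMap A (B ⧸ J))) (B ⧸ J) := by
  have : IsNoetherianRing (B ⧸ I.map (algebraMap A B)) := Algebra.FiniteType.isNoetherianRing A _
  have : IsNoetherianRing B := LocalCrit.isNoetherianRing_of_isAdicComplete (I.map (algebraMap A B))
    (Ideal.FG.map (IsNoetherian.noetherian I) _)
  have h : IsAdicComplete (I.map (algebraMap A B)) (B ⧸ J) := isAdicComplete_of_finite _ _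
  exact (IsAdicComplete.map_algebraMap_iff (S := B ⧸ J) I (B ⧸ J)).mpr
    ((IsAdicComplete.map_algebraMap_iff (S := B) I (B ⧸ J)).mp h)

theorem mem_pow_smul_top_pi {N : Type v} [AddCommGroup N] [Module A N] {ι : Type w} [Finite ι]
    (J : Ideal A) (f : ι → N) (h : ∀ i, f i ∈ J • (⊤ : Submodule A N)) :
    f ∈ J • (⊤ : Submodule A (ι → N)) := by
  classical
  have := Fintype.ofFinite ι
  rw [← Finset.univ_sum_single f]
  refine Submodule.sum_mem _ fun i _ => ?_
  have := Submodule.mem_map_of_mem (f := LinearMap.single A (fun _ : ι => N) i) (h i)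
  rw [Submodule.map_smul''] at this
  exact Submodule.smul_mono le_rfl le_top this

variable [IsNoetherianRing A] {M : Type v} {N : Type w} [AddCommGroup M] [Module A M] [AddCommGroup N]
  [Module A N] [Module.Finite A M] [Module.Finite A N]

theorem exists_forall_range_le_imp (n : ℕ) :
    ∃ m : ℕ, ∀ u : M →ₗ[A] N, LinearMap.range u ≤ I ^ m • (⊤ : Submodule A N) →
      u ∈ I ^ n • (⊤ : Submodule A (M →ₗ[A] N)) := by
  obtain ⟨k, p, hp⟩ := Module.Finite.exists_fin' A M
  let ev : (M →ₗ[A] N) →ₗ[A] (Fin k → N) := LinearMap.pi fun i => LinearMap.applyₗ (p (Pi.single i 1))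
  have hev : Function.Injective ev := by
    intro u u' h
    have h' : u.comp p = u'.comp p := LinearMap.pi_ext' fun i => LinearMap.ext_ring (congr_fun h i)
    exact LinearMap.ext fun x => (hp x).elim fun z hz => hz ▸ congr($h' z)
  obtain ⟨c, hc⟩ := Ideal.exists_pow_inf_eq_pow_smul I (LinearMap.range ev)
  refine ⟨n + c, fun u hu => ?_⟩
  have h1 : ev u ∈ I ^ (n + c) • (⊤ : Submodule A (Fin k → N)) ⊓ LinearMap.range ev :=
    ⟨mem_pow_smul_top_pi _ _ fun i => hu ⟨_, rfl⟩, u, rfl⟩
  rw [hc (n + c) (Nat.le_add_left _ _), Nat.add_sub_cancel] at h1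
  have h2 : ev u ∈ (I ^ n • (⊤ : Submodule A (M →ₗ[A] N))).map ev := by
    rw [Submodule.map_smul'', Submodule.map_top]
    exact Submodule.smul_mono le_rfl inf_le_right h1
  obtain ⟨u', hu', e⟩ := h2
  exact hev e ▸ hu'

omit [IsNoetherianRing A] [Module.Finite A M] [Module.Finite A N] in
theorem apply_mem_pow {k j : ℕ} {w : M →ₗ[A] N} (hw : w ∈ I ^ k • (⊤ : Submodule A (M →ₗ[A] N))) {x : M}
    (hx : x ∈ I ^ j • (⊤ : Submodule A M)) : w x ∈ I ^ (k + j) • (⊤ : Submodule A N) := by
  rw [add_comm, pow_add, Submodule.mul_smul]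
  refine Submodule.smul_induction_on hx (fun r hr y _ => ?_) (fun a b ha hb => by rw [map_add]; exact add_mem ha hb)
  rw [map_smul]
  have h := Submodule.mem_map_of_mem (f := LinearMap.applyₗ (R := A) y) hw
  rw [Submodule.map_smul''] at h
  exact Submodule.smul_mem_smul hr (Submodule.smul_mono le_rfl le_top h)

theorem exists_injective_add [IsAdicComplete I A] (v : M →ₗ[A] N) (hv : Function.Injective v) :
    ∃ k : ℕ, ∀ w ∈ I ^ k • (⊤ : Submodule A (M →ₗ[A] N)), Function.Injective (v + w) := by
  obtain ⟨c, hc⟩ := Ideal.exists_pow_inf_eq_pow_smul I (LinearMap.range v)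
  refine ⟨c + 1, fun w hw => (injective_iff_map_eq_zero _).mpr fun x hx => ?_⟩
  have hvx : v x = -(w x) := eq_neg_of_add_eq_zero_left hx
  have hH : IsHausdorff I M := IsHausdorff.of_le_jacobson I M (IsAdicComplete.le_jacobson_bot I)
  refine IsHausdorff.haus hH x fun j => SModEq.zero.mpr ?_
  induction j with
  | zero => simp
  | succ j ih =>
    have h1 : v x ∈ I ^ (c + 1 + j) • (⊤ : Submodule A N) ⊓ LinearMap.range v :=
      ⟨hvx ▸ neg_mem (apply_mem_pow I hw ih), x, rfl⟩
    rw [hc _ (by omega), show c + 1 + j - c = j + 1 by omega] at h1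
    have h2 : v x ∈ (I ^ (j + 1) • (⊤ : Submodule A M)).map v := by
      rw [Submodule.map_smul'', Submodule.map_top]
      exact Submodule.smul_mono le_rfl inf_le_right h1
    obtain ⟨x', hx', e⟩ := h2
    exact hv e ▸ hx'

omit [IsNoetherianRing A] [Module.Finite A M] in
theorem surjective_add [IsAdicComplete I A] (v : M →ₗ[A] N) (hv : Function.Surjective v) (w : M →ₗ[A] N)
    (hw : w ∈ I • (⊤ : Submodule A (M →ₗ[A] N))) : Function.Surjective (v + w) := by
  have hle : (⊤ : Submodule A N) ≤ LinearMap.range (v + w) ⊔ I • ⊤ := by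
    intro y _
    obtain ⟨x, rfl⟩ := hv y
    have h := Submodule.mem_map_of_mem (f := LinearMap.applyₗ (R := A) x) hw
    rw [Submodule.map_smul''] at h
    exact Submodule.mem_sup.mpr ⟨(v + w) x, ⟨x, rfl⟩, -(w x),
      neg_mem (Submodule.smul_mono le_rfl le_top h), by simp⟩
  intro y
  exact Submodule.le_of_le_smul_of_le_jacobson_bot Module.Finite.fg_top
    (IsAdicComplete.le_jacobson_bot I) hle (Submodule.mem_top (x := y))

end Groth.Agent.Adic7
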