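import Mathlib.RingTheory.AdicCompletion.RingHom
import Mathlib.RingTheory.AdicCompletion.Completeness
import Mathlib.RingTheory.AdicCompletion.Functoriality

/-!
# Maps out of adic completions
-/

noncomputable section

namespace Groth.Agent.Adic7

universe u v w

variable {R : Type u} [CommRing R] {S : Type v} [CommRing S] [Algebra R S] {B : Type w} [CommRing B] [Algebra R B]

/-- A map into a complete ring extends to the completion. -/
theorem exists_lift_completion (J : Ideal S) (K : Ideal B) [IsAdicComplete K B] (f : S →ₐ[R] B)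
    (hf : J.map f ≤ K) :
    ∃ F : AdicCompletion J S →ₐ[R] B, ∀ s, F (algebraMap S (AdicCompletion J S) s) = f s := by
  have hn : ∀ n, J ^ n ≤ (K ^ n).comap f := fun n => Ideal.map_le_iff_le_comap.mp <| by
    rw [Ideal.map_pow]; exact Ideal.pow_right_mono hf n
  let fn : ∀ n, AdicCompletion J S →ₐ[R] B ⧸ K ^ n := fun n =>
    (Ideal.quotientMapₐ (K ^ n) f (hn n)).comp ((AdicCompletion.evalₐ J n).restrictScalars R)
  have hfn : ∀ {m n : ℕ} (hle : m ≤ n),
      (Ideal.Quotient.factorₐ R (Ideal.pow_le_pow_right hle)).comp (fn n) = fn m := by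
    intro m n hle
    refine AlgHom.ext fun x => ?_
    obtain ⟨a, rfl⟩ := AdicCompletion.mk_surjective J S x
    show Ideal.Quotient.factor (Ideal.pow_le_pow_right hle)
      (Ideal.quotientMapₐ (K ^ n) f (hn n) (AdicCompletion.evalₐ J n (AdicCompletion.mk J S a))) =
      Ideal.quotientMapₐ (K ^ m) f (hn m) (AdicCompletion.evalₐ J m (AdicCompletion.mk J S a))
    rw [AdicCompletion.evalₐ_mk, AdicCompletion.evalₐ_mk]
    show Ideal.Quotient.mk (K ^ m) (f (a n)) = Ideal.Quotient.mk (K ^ m) (f (a m))
    rw [Ideal.Quotient.eq, ← map_sub]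
    refine hn m ?_
    have := (a.2 hle).symm
    rwa [SModEq.sub_mem, Ideal.smul_eq_mul, Ideal.mul_top] at this
  refine ⟨IsAdicComplete.liftAlgHom K fn hfn, fun s => ?_⟩
  refine (IsHausdorff.eq_iff_smodEq (I := K)).mpr fun n => ?_
  rw [SModEq.sub_mem, Ideal.smul_eq_mul, Ideal.mul_top, ← Ideal.Quotient.eq, IsAdicComplete.mk_liftAlgHom]
  show Ideal.quotientMapₐ (K ^ n) f (hn n) (AdicCompletion.evalₐ J n (algebraMap S _ s)) = _
  rw [AlgHom.commutes]
  rfl

/-- The dense image of a ring in its completion. -/
theorem exists_sub_algebraMap_mem (J : Ideal S) (hJ : J.FG) (x : AdicCompletion J S) (n : ℕ) :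
    ∃ s : S, x - algebraMap S (AdicCompletion J S) s ∈ (J.map (algebraMap S (AdicCompletion J S))) ^ n := by
  obtain ⟨s, hs⟩ := Submodule.Quotient.mk_surjective _ (AdicCompletion.eval J S n x)
  refine ⟨s, ?_⟩
  have h1 : x - algebraMap S (AdicCompletion J S) s ∈ (AdicCompletion.eval J S n).ker := by
    rw [LinearMap.mem_ker, map_sub, sub_eq_zero, ← hs]
    exact (AdicCompletion.eval_of J S n s).symm
  rw [← AdicCompletion.pow_smul_top_eq_ker_eval hJ, Ideal.smul_top_eq_map, Submodule.restrictScalars_mem,
    Ideal.map_pow] at h1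
  exact h1

/-- Maps out of a completion are determined on the ring. -/
theorem algHom_ext_completion (J : Ideal S) (hJ : J.FG) (K : Ideal B) [IsHausdorff K B]
    (F G : AdicCompletion J S →ₐ[R] B) (hF : (J.map (algebraMap S (AdicCompletion J S))).map F ≤ K)
    (hG : (J.map (algebraMap S (AdicCompletion J S))).map G ≤ K)
    (h : ∀ s, F (algebraMap S (AdicCompletion J S) s) = G (algebraMap S (AdicCompletion J S) s)) : F = G := by
  refine AlgHom.ext fun x => (IsHausdorff.eq_iff_smodEq (I := K)).mpr fun n => ?_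
  obtain ⟨s, hs⟩ := exists_sub_algebraMap_mem J hJ x n
  rw [SModEq.sub_mem, Ideal.smul_eq_mul, Ideal.mul_top]
  have h1 := Ideal.pow_right_mono hF n (by rw [← Ideal.map_pow]; exact Ideal.mem_map_of_mem _ hs)
  have h2 := Ideal.pow_right_mono hG n (by rw [← Ideal.map_pow]; exact Ideal.mem_map_of_mem _ hs)
  have := sub_mem h1 h2
  simpa [h] using this

/-- Completions at finitely generated ideals are complete. -/
theorem isAdicComplete_completion (J : Ideal S) (hJ : J.FG) :
    IsAdicComplete (J.map (algebraMap S (AdicCompletion J S))) (AdicCompletion J S) :=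
  (IsAdicComplete.map_algebraMap_iff _ _).mpr (AdicCompletion.isAdicComplete hJ)

/-- The algebra map of the base carries the ideal as expected. -/
theorem map_map_completion (I : Ideal R) :
    (I.map (algebraMap R S)).map (algebraMap S (AdicCompletion (I.map (algebraMap R S)) S)) =
      I.map (algebraMap R (AdicCompletion (I.map (algebraMap R S)) S)) :=
  Ideal.map_map _ _

end Groth.Agent.Adic7
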