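import Groth.Agent.Adic7.Basic

/-!
# Limits of systems of quotient modules
-/

noncomputable section

namespace Groth.Agent.Adic7

universe u v

theorem limit_quotient_system
    (A : Type u) [CommRing A] (I : Ideal A) (hI : I.FG)
    (M : ℕ → Type v) [∀ n, AddCommGroup (M n)] [∀ n, Module A (M n)]
    (f : ∀ n, M (n + 1) →ₗ[A] M n) (hf : ∀ n, Function.Surjective (f n))
    (hker : ∀ n, LinearMap.ker (f n) = I ^ (n + 1) • (⊤ : Submodule A (M (n + 1))))
    (L : Type v) [AddCommGroup L] [Module A L] (π : ∀ n, L →ₗ[A] M n)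
    (hπ : ∀ n, f n ∘ₗ π (n + 1) = π n)
    (hinj : ∀ x : L, (∀ n, π n x = 0) → x = 0)
    (hlift : ∀ y : (∀ n, M n), (∀ n, f n (y (n + 1)) = y n) → ∃ x : L, ∀ n, π n x = y n) :
    IsAdicComplete I L ∧
      (∀ n, Function.Surjective (π n) ∧ LinearMap.ker (π n) = I ^ (n + 1) • (⊤ : Submodule A L)) ∧
      (IsAdicComplete I A → Module.Finite A (M 0) → Module.Finite A L) := by
  classical
  have hπ' : ∀ n x, f n (π (n + 1) x) = π n x := fun n x => congr($(hπ n) x)
  -- the kernels are decreasing
  have hanti : ∀ {m n : ℕ}, m ≤ n → ∀ x, π n x = 0 → π m x = 0 := by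
    intro m n hmn
    induction hmn with
    | refl => exact fun x hx => hx
    | step _ ih => exact fun x hx => ih x (by rw [← hπ', hx, map_zero])
  -- lifting sequences
  have hlim : ∀ S : ℕ → L, (∀ m, π m (S (m + 1)) = π m (S m)) → ∃ x, ∀ m, π m x = π m (S m) := fun S hS =>
    hlift _ fun m => by rw [hπ', hS]
  -- surjectivity
  have hsurj : ∀ n, Function.Surjective (π n) := by
    intro n z
    let g : (m : ℕ) → M m → M (m + 1) := fun m => Function.surjInv (hf m)
    have hg : ∀ m y, f m (g m y) = y := fun m => Function.surjInv_eq (hf m)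
    -- project `z` downwards
    have hex : ∃ y : (m : ℕ) → m ≤ n → M m, y n le_rfl = z ∧
        ∀ m (h : m + 1 ≤ n), f m (y (m + 1) h) = y m (Nat.le_of_succ_le h) := by
      clear hπ' hanti hlim
      revert z
      induction n with
      | zero => exact fun z => ⟨fun m h => (Nat.le_zero.mp h) ▸ z, rfl, fun m h => absurd h (by omega)⟩
      | succ n ih =>
        intro z
        obtain ⟨y, hy, hy'⟩ := ih (f n z)
        refine ⟨fun m h => if h' : m = n + 1 then h' ▸ z else y m (by omega), by simp, fun m h => ?_⟩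
        by_cases h' : m = n
        · subst h'
          simp only [dif_pos, dif_neg (show ¬ m = m + 1 by omega)]
          exact hy.symm
        · simp only [dif_neg (show ¬ m + 1 = n + 1 by omega), dif_neg (show ¬ m = n + 1 by omega)]
          exact hy' m (by omega)
    obtain ⟨y, hy, hy'⟩ := hex
    -- make a single sequence out of `g`
    let Y : (d : ℕ) → M (n + d) := fun d => Nat.rec z (fun d v => g (n + d) v) d
    have hY : ∀ d, f (n + d) (Y (d + 1)) = Y d := fun d => hg _ _
    let low : (m : ℕ) → m ≤ n → M m := y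
    let s : (m : ℕ) → M m := fun m =>
      if h : n ≤ m then (Nat.add_sub_cancel' h) ▸ Y (m - n) else low m (le_of_not_ge h)
    have hs_ge : ∀ d, s (n + d) = Y d := fun d => by
      have : ∀ (m k : ℕ) (h : n + k = m) (e : k = d) (e' : m = n + d), (h ▸ Y k : M m) = e' ▸ Y d := by
        rintro m k h rfl e'; rfl
      simp only [s, dif_pos (Nat.le_add_right n d)]
      exact this _ _ (Nat.add_sub_cancel' (Nat.le_add_right n d)) (by omega) rfl
    have hs_lt : ∀ m (h : m < n), s m = low m h.le := fun m h => dif_neg (by omega)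
    have hsn : s n = z := hs_ge 0
    obtain ⟨x, hx⟩ := hlift s fun m => by
      rcases lt_or_ge m n with h | h
      · rcases eq_or_lt_of_le (Nat.succ_le_of_lt h) with h' | h'
        · rw [hs_lt m h]
          refine Eq.trans ?_ (hy' m (by omega))
          congr 1
          subst h'
          exact hsn.trans hy.symm
        · rw [hs_lt m h, hs_lt (m + 1) h']
          exact hy' m (by omega)
      · obtain ⟨d, rfl⟩ := Nat.exists_eq_add_of_le h
        exact ((congrArg (f (n + d)) (hs_ge (d + 1))).trans (hY d)).trans (hs_ge d).symm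
    exact ⟨x, (hx n).trans hsn⟩
  -- powers of `I` lie in the kernels
  have hle : ∀ n, I ^ (n + 1) • (⊤ : Submodule A L) ≤ LinearMap.ker (π n) := by
    intro n x hx
    have h := Submodule.mem_map_of_mem (f := π (n + 1)) hx
    rw [Submodule.map_smul''] at h
    have h' : π (n + 1) x ∈ LinearMap.ker (f n) := by
      rw [hker]; exact Submodule.smul_mono le_rfl le_top h
    rw [LinearMap.mem_ker, hπ'] at h'
    exact h'
  -- kernels are exactly the powers
  have hge : ∀ n, LinearMap.ker (π n) ≤ I ^ (n + 1) • (⊤ : Submodule A L) := by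
    intro n x hx
    obtain ⟨k, g, hg⟩ := Submodule.fg_iff_exists_fin_generating_family.mp (hI.pow (n := n + 1))
    have hstep : ∀ (t : ℕ) (x : LinearMap.ker (π (n + t))), ∃ (c : Fin k → L) (x' : LinearMap.ker (π (n + t + 1))),
        (∀ i, c i ∈ I ^ t • (⊤ : Submodule A L)) ∧ (x : L) = (∑ i, g i • c i) + x' := by
      intro t x
      have h : π (n + t + 1) (x : L) ∈ I ^ (n + t + 1) • (⊤ : Submodule A (M (n + t + 1))) := by
        rw [← hker, LinearMap.mem_ker, hπ']; exact x.2
      rw [← LinearMap.range_eq_top.mpr (hsurj (n + t + 1)), LinearMap.range_eq_map, ← Submodule.map_smul''] at h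
      obtain ⟨a, ha, hax⟩ := h
      rw [show n + t + 1 = n + 1 + t by omega, pow_add, Submodule.mul_smul,
        show I ^ (n + 1) = Ideal.span (Set.range g) from hg.symm] at ha
      have hc : ∃ c : Fin k → L, (∀ i, c i ∈ I ^ t • (⊤ : Submodule A L)) ∧ a = ∑ i, g i • c i := by
        refine Submodule.smul_induction_on ha (fun r hr y hy => ?_) (fun p q hp hq => ?_)
        · obtain ⟨e, rfl⟩ := Ideal.mem_span_range_iff_exists_fun.mp hr
          refine ⟨fun i => e i • y, fun i => Submodule.smul_mem _ _ hy, ?_⟩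
          rw [Finset.sum_smul]
          exact Finset.sum_congr rfl fun i _ => by rw [mul_comm, mul_smul]
        · obtain ⟨c, hc, rfl⟩ := hp
          obtain ⟨c', hc', rfl⟩ := hq
          exact ⟨c + c', fun i => add_mem (hc i) (hc' i), by simp [Finset.sum_add_distrib]⟩
      obtain ⟨c, hc, rfl⟩ := hc
      exact ⟨c, ⟨(x : L) - ∑ i, g i • c i, by rw [LinearMap.mem_ker, map_sub, hax, sub_self]⟩, hc, by simp⟩
    choose c x' hc hx' using hstep
    let X : ∀ t, LinearMap.ker (π (n + t)) := fun t =>
      Nat.rec (motive := fun t => LinearMap.ker (π (n + t))) ⟨x, hx⟩ (fun t v => x' t v) t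
    let S : ℕ → Fin k → L := fun m i => ∑ t ∈ Finset.range (m + 1), c t (X t) i
    have hsumX : ∀ m, x = (∑ i, g i • S m i) + X (m + 1) := by
      intro m
      induction m with
      | zero =>
        have e : ∀ i, S 0 i = c 0 (X 0) i := fun i => by simp [S]
        simp only [e]
        exact hx' 0 (X 0)
      | succ m ih =>
        have e : ∀ i, S (m + 1) i = S m i + c (m + 1) (X (m + 1)) i := fun i => Finset.sum_range_succ _ _
        simp only [e, smul_add, Finset.sum_add_distrib]
        rw [add_assoc, ← show ((X (m + 1)) : L) = (∑ i, g i • c (m + 1) (X (m + 1)) i) + X (m + 1 + 1) from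
          hx' (m + 1) (X (m + 1))]
        exact ih
    choose Y hY using fun i => hlim (fun m => S m i) fun m => by
      show π m (∑ t ∈ Finset.range (m + 1 + 1), c t (X t) i) = _
      rw [Finset.sum_range_succ, map_add]
      have h0 : π m (c (m + 1) (X (m + 1)) i) = 0 := hle m (hc (m + 1) _ i)
      rw [h0, add_zero]
    have hxY : x = ∑ i, g i • Y i := sub_eq_zero.mp (hinj _ fun m => by
      have hX : π m (X (m + 1) : L) = 0 := hanti (by omega) _ (X (m + 1)).2
      rw [map_sub, sub_eq_zero]
      conv_lhs => rw [hsumX m]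
      rw [map_add, hX, add_zero, map_sum, map_sum]
      exact Finset.sum_congr rfl fun i _ => by rw [map_smul, map_smul, hY])
    rw [hxY]
    exact Submodule.sum_mem _ fun i _ => Submodule.smul_mem_smul
      (by rw [← hg]; exact Submodule.subset_span ⟨i, rfl⟩) Submodule.mem_top
  have hH : IsHausdorff I L := ⟨fun x hx => hinj x fun m => hle m (SModEq.zero.mp (hx (m + 1)))⟩
  have hP : IsPrecomplete I L := ⟨fun s hs => by
    have hs' : ∀ m n, m ≤ n → s m - s n ∈ I ^ m • (⊤ : Submodule A L) := fun m n h => SModEq.sub_mem.mp (hs h)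
    obtain ⟨x, hx⟩ := hlim (fun m => s (m + 1)) fun m => by
      refine (sub_eq_zero.mp ?_).symm
      rw [← map_sub]
      exact hle m (hs' _ _ (Nat.le_succ _))
    refine ⟨x, fun m => SModEq.sub_mem.mpr ?_⟩
    cases m with
    | zero => simp
    | succ m =>
      refine hge m (LinearMap.mem_ker.mpr ?_)
      rw [map_sub, hx, sub_self]⟩
  refine ⟨{ toIsHausdorff := hH, toIsPrecomplete := hP }, fun n => ⟨hsurj n, le_antisymm (hge n) (hle n)⟩,
    fun hA hM => ?_⟩
  obtain ⟨k, p, hp⟩ := Module.Finite.exists_fin' A (M 0)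
  choose l hl using fun i : Fin k => hsurj 0 (p (Pi.single i 1))
  let φ : (Fin k → A) →ₗ[A] L := Fintype.linearCombination A l
  have : IsPrecomplete I (Fin k → A) := isPrecomplete_of_finite I _
  refine Module.Finite.of_surjective φ (surjective_of_mkQ_comp_surjective (I := I) ?_)
  have hcomp : π 0 ∘ₗ φ = p := LinearMap.pi_ext' fun i => LinearMap.ext_ring (by
    simp [φ, hl])
  intro z
  obtain ⟨z, rfl⟩ := Submodule.mkQ_surjective _ z
  obtain ⟨v, hv⟩ := hp (π 0 z)
  refine ⟨v, (Submodule.Quotient.eq _).mpr ?_⟩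
  have := hge 0 (show φ v - z ∈ LinearMap.ker (π 0) by
    rw [LinearMap.mem_ker, map_sub, ← LinearMap.comp_apply, hcomp, hv, sub_self])
  rwa [pow_one] at this

end Groth.Agent.Adic7
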