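import Groth.Agent.Adic7.Basic

/-!
# Limits of systems of finite modules over a complete ring
-/

noncomputable section

namespace Groth.Agent.Adic7

universe u v

variable {A : Type u} [CommRing A] (I : Ideal A) [IsAdicComplete I A]
  {M : ℕ → Type v} [∀ n, AddCommGroup (M n)] [∀ n, Module A (M n)]
  {f : ∀ n, M (n + 1) →ₗ[A] M n} (hf : ∀ n, Function.Surjective (f n))
  (hk : ∀ n, I ^ (n + 1) • (⊤ : Submodule A (M n)) = ⊥)
  (hker : ∀ n, LinearMap.ker (f n) = I ^ (n + 1) • (⊤ : Submodule A (M (n + 1))))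
  {L : Type v} [AddCommGroup L] [Module A L] {π : ∀ n, L →ₗ[A] M n}
  (hπ : ∀ n, f n ∘ₗ π (n + 1) = π n)
  (hinj : ∀ x : L, (∀ n, π n x = 0) → x = 0)
  (hlift : ∀ y : (∀ n, M n), (∀ n, f n (y (n + 1)) = y n) → ∃ x : L, ∀ n, π n x = y n)
  [Module.Finite A (M 0)]

include hf hk hker hπ hinj hlift in
/-- A finite free cover of the limit, with control on every level. -/
theorem exists_cover_limit :
    ∃ (k : ℕ) (φ : (Fin k → A) →ₗ[A] L), (∀ n, Function.Surjective (π n ∘ₗ φ)) ∧
      ∀ n x, π n x = 0 → x ∈ (I ^ (n + 1) • (⊤ : Submodule A (Fin k → A))).map φ := by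
  classical
  have hπ' : ∀ n x, f n (π (n + 1) x) = π n x := fun n x => congr($(hπ n) x)
  obtain ⟨k, p, hp⟩ := Module.Finite.exists_fin' A (M 0)
  -- lift generators
  have hup : ∀ z : M 0, ∃ x : L, π 0 x = z := fun z => by
    obtain ⟨x, hx⟩ := hlift (fun n => Nat.rec (motive := fun n => M n) z (fun n v => Function.surjInv (hf n) v) n)
      fun n => Function.surjInv_eq (hf n) _
    exact ⟨x, hx 0⟩
  choose l hl using fun i : Fin k => hup (p (Pi.single i 1))
  let φ : (Fin k → A) →ₗ[A] L := Fintype.linearCombination A l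
  have hcomp : π 0 ∘ₗ φ = p := LinearMap.pi_ext' fun i => LinearMap.ext_ring (by simp [φ, hl])
  -- surjectivity at every level
  have hsurj : ∀ n, Function.Surjective (π n ∘ₗ φ) := by
    intro n
    induction n with
    | zero => rw [hcomp]; exact hp
    | succ n ih =>
      let N := LinearMap.range (π (n + 1) ∘ₗ φ)
      have h1 : (⊤ : Submodule A (M (n + 1))) ≤ N ⊔ I ^ (n + 1) • ⊤ := by
        intro z _
        obtain ⟨w, hw⟩ := ih (f n z)
        refine Submodule.mem_sup.mpr ⟨π (n + 1) (φ w), ⟨w, rfl⟩, z - π (n + 1) (φ w), ?_, add_sub_cancel _ _⟩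
        rw [← hker, LinearMap.mem_ker, map_sub, hπ']
        exact sub_eq_zero.mpr hw.symm
      have h2 : ∀ j, (⊤ : Submodule A (M (n + 1))) ≤ N ⊔ (I ^ (n + 1)) ^ j • ⊤ := by
        intro j
        induction j with
        | zero => simp
        | succ j ihj =>
          refine ihj.trans (sup_le le_sup_left ((Submodule.smul_mono le_rfl h1).trans ?_))
          rw [Submodule.smul_sup, ← Submodule.mul_smul, ← pow_succ]
          exact sup_le (Submodule.smul_le_right.trans le_sup_left) le_sup_right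
      have h3 : (I ^ (n + 1)) ^ 2 • (⊤ : Submodule A (M (n + 1))) = ⊥ := le_bot_iff.mp <| by
        rw [← pow_mul, ← hk (n + 1)]
        exact Submodule.smul_mono (Ideal.pow_le_pow_right (by omega)) le_rfl
      have h4 := h2 2
      rw [h3, sup_bot_eq] at h4
      exact LinearMap.range_eq_top.mp (top_le_iff.mp h4)
  refine ⟨k, φ, hsurj, ?_⟩
  -- refinement of approximations
  have hstep : ∀ n (x : L) (v : Fin k → A), π n (φ v) = π n x →
      ∃ w, w ∈ I ^ (n + 1) • (⊤ : Submodule A (Fin k → A)) ∧ π (n + 1) (φ (v + w)) = π (n + 1) x := by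
    intro n x v hv
    have h1 : π (n + 1) (x - φ v) ∈ I ^ (n + 1) • LinearMap.range (π (n + 1) ∘ₗ φ) := by
      rw [LinearMap.range_eq_top.mpr (hsurj (n + 1)), ← hker, LinearMap.mem_ker, hπ', map_sub, hv, sub_self]
    rw [LinearMap.range_eq_map, ← Submodule.map_smul''] at h1
    obtain ⟨w, hw, hwe⟩ := h1
    refine ⟨w, hw, ?_⟩
    have hwe' : π (n + 1) (φ w) = π (n + 1) (x - φ v) := hwe
    rw [map_add, map_add, hwe', map_sub, add_sub_cancel]
  choose w hw hwe using hstep
  have : IsAdicComplete I (Fin k → A) := isAdicComplete_of_projective I _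
  intro n x hx
  let v : ∀ d, {v : Fin k → A // π (n + d) (φ v) = π (n + d) x} := fun d =>
    Nat.rec (motive := fun d => {v : Fin k → A // π (n + d) (φ v) = π (n + d) x})
      ⟨0, by rw [map_zero, map_zero]; exact hx.symm⟩
      (fun d v => ⟨v.1 + w (n + d) x v.1 v.2, hwe (n + d) x v.1 v.2⟩) d
  have hmono : ∀ d e, d ≤ e → (v d).1 - (v e).1 ∈ I ^ (n + d + 1) • (⊤ : Submodule A (Fin k → A)) := by
    intro d e h
    induction h with
    | refl => simp
    | @step e h ih =>
      have : (v (e + 1)).1 = (v e).1 + w (n + e) x (v e).1 (v e).2 := rfl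
      rw [this, sub_add_eq_sub_sub]
      have h' : d ≤ e := h
      exact sub_mem ih (Submodule.smul_mono (Ideal.pow_le_pow_right (by omega)) le_rfl (hw _ _ _ _))
  obtain ⟨V, hV⟩ := IsPrecomplete.prec (I := I) (M := Fin k → A) inferInstance (f := fun d => (v d).1)
    fun {d e} h => SModEq.sub_mem.mpr (Submodule.smul_mono
      (Ideal.pow_le_pow_right (show d ≤ n + d + 1 by omega)) le_rfl (hmono d e h))
  have hVx : φ V = x := sub_eq_zero.mp (hinj _ fun m => by
    have h1 : π m (φ ((v (m + 1)).1 - V)) = 0 := by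
      have h := Submodule.mem_map_of_mem (f := π m ∘ₗ φ) (SModEq.sub_mem.mp (hV (m + 1)))
      rw [Submodule.map_smul''] at h
      have h' : π m (φ ((v (m + 1)).1 - V)) ∈ I ^ (m + 1) • (⊤ : Submodule A (M m)) :=
        Submodule.smul_mono le_rfl le_top h
      rwa [hk, Submodule.mem_bot] at h'
    have h2 : ∀ j i, π (i + j) (φ (v (m + 1)).1) = π (i + j) x → π i (φ (v (m + 1)).1) = π i x := by
      intro j
      induction j with
      | zero => exact fun i h => h
      | succ j ihj => exact fun i h => ihj i (by rw [← hπ' (i + j), ← hπ' (i + j)]; exact congrArg _ h)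
    have h3 : π m (φ (v (m + 1)).1) = π m x := h2 (n + 1) m (by
      rw [show m + (n + 1) = n + (m + 1) by omega]; exact (v (m + 1)).2)
    rw [map_sub, ← h3, ← map_sub, ← map_sub, ← neg_sub, map_neg, map_neg, h1, neg_zero])
  refine ⟨V, ?_, hVx⟩
  have h := SModEq.sub_mem.mp (hV (n + 1))
  have h' := hmono 0 (n + 1) (Nat.zero_le _)
  have e : V = -(((v (n + 1)).1 - V)) - ((v 0).1 - (v (n + 1)).1) := by
    rw [show (v 0).1 = 0 from rfl]; abel
  rw [e]
  exact sub_mem (neg_mem h) h'

include hf hk hker hπ hinj hlift in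
theorem limit_finite :
    Module.Finite A L ∧ IsAdicComplete I L ∧
      ∀ n, Function.Surjective (π n) ∧ LinearMap.ker (π n) = I ^ (n + 1) • (⊤ : Submodule A L) := by
  obtain ⟨k, φ, hsurj, hker'⟩ := exists_cover_limit I hf hk hker hπ hinj hlift
  have hle : ∀ n, I ^ (n + 1) • (⊤ : Submodule A L) ≤ LinearMap.ker (π n) := fun n x hx => by
    have h := Submodule.mem_map_of_mem (f := π n) hx
    rw [Submodule.map_smul''] at h
    have h' : π n x ∈ I ^ (n + 1) • (⊤ : Submodule A (M n)) := Submodule.smul_mono le_rfl le_top h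
    rwa [hk, Submodule.mem_bot] at h'
  have hge : ∀ n, LinearMap.ker (π n) ≤ I ^ (n + 1) • (⊤ : Submodule A L) := fun n x hx => by
    have h := hker' n x hx
    rw [Submodule.map_smul''] at h
    exact Submodule.smul_mono le_rfl le_top h
  have hφ : Function.Surjective φ := fun x => by
    obtain ⟨v₀, hv₀⟩ := hsurj 0 (π 0 x)
    obtain ⟨v, -, hv⟩ := hker' 0 (x - φ v₀) (by rw [map_sub, ← LinearMap.comp_apply, hv₀, sub_self])
    exact ⟨v₀ + v, by rw [map_add, hv, add_sub_cancel]⟩
  have : Module.Finite A L := Module.Finite.of_surjective φ hφ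
  refine ⟨inferInstance, @IsAdicComplete.mk _ _ _ _ _ _ ⟨fun x hx => hinj x fun m => hle m (SModEq.zero.mp (hx (m + 1)))⟩
    (isPrecomplete_of_finite I L), fun n => ⟨fun z => ?_, le_antisymm (hge n) (hle n)⟩⟩
  obtain ⟨v, hv⟩ := hsurj n z
  exact ⟨φ v, hv⟩

end Groth.Agent.Adic7
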