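import Groth.Agent.Adic7.Basic

/-!
# Quasi-finite modules, Zariski rings, artinian unions, dense polynomial subrings
-/

noncomputable section

namespace Groth.Agent.Adic7

universe u v w

open IsLocalRing

section QuasiFinite

variable (A : Type u) (B : Type v) (M : Type w)
    [CommRing A] [IsLocalRing A] [CommRing B] [IsLocalRing B] [IsNoetherianRing B]
    [Algebra A B] [IsLocalHom (algebraMap A B)]
    [AddCommGroup M] [Module B M] [Module A M] [IsScalarTower A B M] [Module.Finite B M]

omit [IsLocalRing B] [IsNoetherianRing B] [IsLocalHom (algebraMap A B)] [Module.Finite B M] in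
theorem smul_top_eq : (maximalIdeal A • ⊤ : Submodule A M) =
    (((maximalIdeal A).map (algebraMap A B)) • (⊤ : Submodule B M)).restrictScalars A :=
  by rw [Ideal.smul_restrictScalars, Submodule.restrictScalars_top]

theorem finite_quot (hq : Module.Finite A (M ⧸ (maximalIdeal A • ⊤ : Submodule A M))) :
    Module.Finite A (M ⧸ ((maximalIdeal A).map (algebraMap A B)) • (⊤ : Submodule B M)) :=
  Module.Finite.equiv ((Submodule.quotEquivOfEq _ _ (smul_top_eq A B M)).trans
    (Submodule.Quotient.restrictScalarsEquiv A _))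

theorem exists_pow_smul_le (hq : Module.Finite A (M ⧸ (maximalIdeal A • ⊤ : Submodule A M))) :
    ∃ k : ℕ, ∀ h : ℕ, (maximalIdeal B ^ (h * k) • ⊤ : Submodule B M) ≤
      (Ideal.map (algebraMap A B) (maximalIdeal A)) ^ h • ⊤ := by
  set a := (maximalIdeal A).map (algebraMap A B)
  let Q := M ⧸ a • (⊤ : Submodule B M)
  have : Module.Finite A Q := finite_quot A B M hq
  have htor : Module.IsTorsionBySet A Q (maximalIdeal A) := fun q r => by
    obtain ⟨x, rfl⟩ := Submodule.Quotient.mk_surjective _ q
    rw [← algebraMap_smul B, ← Submodule.Quotient.mk_smul]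
    exact (Submodule.Quotient.mk_eq_zero _).mpr
      (Submodule.smul_mem_smul (Ideal.mem_map_of_mem _ r.2) Submodule.mem_top)
  let := htor.module
  let := Ideal.Quotient.field (maximalIdeal A)
  have : IsScalarTower A (A ⧸ maximalIdeal A) Q := htor.isScalarTower
  have : Module.Finite (A ⧸ maximalIdeal A) Q := Module.Finite.of_restrictScalars_finite A _ _
  have : IsArtinian A Q := isArtinian_of_surjective_algebraMap (R := A ⧸ maximalIdeal A) Ideal.Quotient.mk_surjective
  have : IsArtinian B Q := isArtinian_of_tower A this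
  obtain ⟨k, hk⟩ := IsArtinian.monotone_stabilizes (R := B) (M := Q)
    ⟨fun n => OrderDual.toDual (maximalIdeal B ^ n • (⊤ : Submodule B Q)),
      fun m n h => Submodule.smul_mono_left (Ideal.pow_le_pow_right h)⟩
  have hk' : maximalIdeal B ^ k • (⊤ : Submodule B Q) ≤ maximalIdeal B • (maximalIdeal B ^ k • (⊤ : Submodule B Q)) := by
    rw [← Submodule.mul_smul, ← pow_succ']
    exact le_of_eq (OrderDual.toDual.injective (hk (k + 1) k.le_succ))
  have h0 : maximalIdeal B ^ k • (⊤ : Submodule B Q) = ⊥ :=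
    Submodule.eq_bot_of_le_smul_of_le_jacobson_bot _ _ (IsNoetherian.noetherian _) hk'
      (jacobson_eq_maximalIdeal ⊥ bot_ne_top).ge
  have hstep : maximalIdeal B ^ k • (⊤ : Submodule B M) ≤ a • ⊤ := by
    refine Submodule.smul_le.mpr fun r hr x _ => ?_
    have : r • (Submodule.Quotient.mk x : Q) ∈ maximalIdeal B ^ k • (⊤ : Submodule B Q) :=
      Submodule.smul_mem_smul hr Submodule.mem_top
    rw [h0, Submodule.mem_bot, ← Submodule.Quotient.mk_smul] at this
    exact (Submodule.Quotient.mk_eq_zero _).mp this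
  refine ⟨k, fun h => ?_⟩
  induction h with
  | zero => simp
  | succ h ih =>
    rw [Nat.succ_mul, add_comm, pow_add, Submodule.mul_smul, pow_succ, Submodule.mul_smul]
    calc maximalIdeal B ^ k • (maximalIdeal B ^ (h * k) • (⊤ : Submodule B M))
        ≤ maximalIdeal B ^ k • (a ^ h • ⊤) := Submodule.smul_mono le_rfl ih
      _ = a ^ h • (maximalIdeal B ^ k • ⊤) := by rw [← Submodule.mul_smul, mul_comm, Submodule.mul_smul]
      _ ≤ a ^ h • (a • ⊤) := Submodule.smul_mono le_rfl hstep

omit [IsNoetherianRing B] [IsLocalRing A] [IsLocalRing B] [IsLocalHom (algebraMap A B)] in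
theorem finite_of_smul_eq_zero (c : Ideal B) [Module.Finite A (B ⧸ c)] (P : Type*) [AddCommGroup P]
    [Module B P] [Module A P] [IsScalarTower A B P] [Module.Finite B P] (h : ∀ b ∈ c, ∀ p : P, b • p = 0) :
    Module.Finite A P := by
  have htor : Module.IsTorsionBySet B P c := fun p r => h r.1 r.2 p
  let := htor.module
  have : IsScalarTower B (B ⧸ c) P := htor.isScalarTower
  have : IsScalarTower A (B ⧸ c) P := ⟨fun r x p => by
    obtain ⟨b, rfl⟩ := Ideal.Quotient.mk_surjective x
    show Ideal.Quotient.mk c (r • b) • p = r • (b • p)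
    exact (smul_assoc r b p)⟩
  have : Module.Finite (B ⧸ c) P := Module.Finite.of_restrictScalars_finite B _ _
  exact Module.Finite.trans (B ⧸ c) P

omit [IsLocalRing A] [IsLocalRing B] [IsLocalHom (algebraMap A B)] in
theorem finite_quotient_pow (c : Ideal B) [Module.Finite A (B ⧸ c)] (n : ℕ) :
    Module.Finite A (B ⧸ c ^ n) := by
  induction n with
  | zero =>
    have : Subsingleton (B ⧸ c ^ 0) := by rw [pow_zero, Ideal.one_eq_top]; infer_instance
    infer_instance
  | succ n ih =>
    let π : (B ⧸ c ^ (n + 1)) →ₗ[A] (B ⧸ c ^ n) :=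
      (Submodule.factor (Ideal.pow_le_pow_right n.le_succ)).restrictScalars A
    let P : Submodule B (B ⧸ c ^ (n + 1)) := Submodule.map (Submodule.mkQ (c ^ (n + 1))) (c ^ n)
    have : Module.Finite B P := Module.Finite.iff_fg.mpr (IsNoetherian.noetherian _)
    have hP : Module.Finite A P := finite_of_smul_eq_zero A B c P fun b hb p => by
      obtain ⟨⟨x, hx⟩, rfl⟩ : ∃ x : (c ^ n : Ideal B), (⟨Submodule.mkQ _ x.1, ⟨x.1, x.2, rfl⟩⟩ : P) = p := by
        obtain ⟨x, hx, e⟩ := p.2
        exact ⟨⟨x, hx⟩, Subtype.ext e⟩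
      refine Subtype.ext ?_
      show b • Submodule.mkQ (c ^ (n + 1)) x = 0
      rw [← map_smul, Submodule.mkQ_apply, Submodule.Quotient.mk_eq_zero, smul_eq_mul, mul_comm, pow_succ]
      exact Ideal.mul_mem_mul hx hb
    have hker : LinearMap.ker π = P.restrictScalars A := by
      ext z
      obtain ⟨z, rfl⟩ := Submodule.Quotient.mk_surjective _ z
      constructor
      · intro hz
        exact ⟨z, (Submodule.Quotient.mk_eq_zero _).mp hz, rfl⟩
      · rintro ⟨x, hx, e⟩
        show π _ = 0
        rw [← e]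
        exact (Submodule.Quotient.mk_eq_zero _).mpr hx
    refine Module.finite_def.mpr (Submodule.fg_of_fg_map_of_fg_inf_ker π ?_ ?_)
    · rw [Submodule.map_top, LinearMap.range_eq_top.mpr (show Function.Surjective π from Submodule.factor_surjective (Ideal.pow_le_pow_right n.le_succ))]
      exact Module.Finite.fg_top
    · rw [top_inf_eq, hker]
      exact Module.Finite.iff_fg.mp hP

theorem finite_quotient_annihilator (hq : Module.Finite A (M ⧸ (maximalIdeal A • ⊤ : Submodule A M))) :
    Module.Finite A ((B ⧸ Module.annihilator B M) ⧸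
      (maximalIdeal A • ⊤ : Submodule A (B ⧸ Module.annihilator B M))) := by
  set a := (maximalIdeal A).map (algebraMap A B)
  let Q := M ⧸ a • (⊤ : Submodule B M)
  have : Module.Finite A Q := finite_quot A B M hq
  obtain ⟨k, g, hg⟩ := Module.Finite.exists_fin (R := B) (M := Q)
  set c := Module.annihilator B Q
  let ev : (B ⧸ c) →ₗ[A] (Fin k → Q) :=
    ((Submodule.liftQ c (LinearMap.pi fun i => LinearMap.toSpanSingleton B Q (g i))
      fun b hb => LinearMap.mem_ker.mpr (funext fun i => Module.mem_annihilator.mp hb (g i)))).restrictScalars A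
  have hev : Function.Injective ev := (injective_iff_map_eq_zero _).mpr fun x hx => by
    obtain ⟨b, rfl⟩ := Submodule.Quotient.mk_surjective _ x
    refine (Submodule.Quotient.mk_eq_zero _).mpr (Module.mem_annihilator.mpr fun q => ?_)
    have hle : Submodule.span B (Set.range g) ≤ LinearMap.ker (LinearMap.lsmul B Q b) :=
      Submodule.span_le.mpr (by rintro _ ⟨i, rfl⟩; exact congr_fun hx i)
    exact hle (hg ▸ Submodule.mem_top)
  -- `A` acts on `Q` through the residue field
  have htor : Module.IsTorsionBySet A (Fin k → Q) (maximalIdeal A) := fun q r => funext fun i => by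
    obtain ⟨x, hx⟩ := Submodule.Quotient.mk_surjective _ (q i)
    show (r : A) • q i = 0
    rw [← hx, ← algebraMap_smul B, ← Submodule.Quotient.mk_smul]
    exact (Submodule.Quotient.mk_eq_zero _).mpr
      (Submodule.smul_mem_smul (Ideal.mem_map_of_mem _ r.2) Submodule.mem_top)
  let := htor.module
  let := Ideal.Quotient.field (maximalIdeal A)
  have : IsScalarTower A (A ⧸ maximalIdeal A) (Fin k → Q) := htor.isScalarTower
  have : Module.Finite (A ⧸ maximalIdeal A) (Fin k → Q) := Module.Finite.of_restrictScalars_finite A _ _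
  have : IsNoetherian A (Fin k → Q) := by
    let e : Submodule A (Fin k → Q) ↪o Submodule (A ⧸ maximalIdeal A) (Fin k → Q) :=
      { toFun := fun N =>
          { toAddSubmonoid := N.toAddSubmonoid
            smul_mem' := fun x q hq => by
              obtain ⟨r, rfl⟩ := Ideal.Quotient.mk_surjective x
              exact N.smul_mem r hq }
        inj' := fun N N' h => SetLike.ext fun x => SetLike.ext_iff.mp h x
        map_rel_iff' := Iff.rfl }
    have hN : IsNoetherian (A ⧸ maximalIdeal A) (Fin k → Q) := inferInstance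
    exact isNoetherian_mk ⟨e.dual.wellFounded hN.wf⟩
  have : Module.Finite A (B ⧸ c) := Module.Finite.of_injective ev hev
  -- the determinant trick
  have hrad : c ≤ (Module.annihilator B M ⊔ a).radical := fun b hb => by
    obtain ⟨p, hp, -, hpa, hpb⟩ := LinearMap.exists_monic_and_natDegree_eq_and_coeff_mem_pow_and_aeval_eq_zero
      (R := B) (M := M) (LinearMap.lsmul B M b) a (by
        rintro _ ⟨x, rfl⟩
        rw [LinearMap.lsmul_apply, ← Submodule.Quotient.mk_eq_zero, Submodule.Quotient.mk_smul]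
        exact Module.mem_annihilator.mp hb _)
    refine ⟨p.natDegree, ?_⟩
    have hann : p.eval b ∈ Module.annihilator B M := Module.mem_annihilator.mpr fun x => by
      have := congr($hpb x)
      rw [show LinearMap.lsmul B M b = algebraMap B (Module.End B M) b from rfl, Polynomial.aeval_algebraMap_apply,
        Polynomial.coe_aeval_eq_eval] at this
      exact this
    rw [Polynomial.eval_eq_sum_range, Finset.sum_range_succ, hp.coeff_natDegree, one_mul] at hann
    have hsum : ∑ i ∈ Finset.range p.natDegree, p.coeff i * b ^ i ∈ a := Ideal.sum_mem _ fun i hi =>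
      Ideal.mul_mem_right _ _ (Ideal.pow_le_self (Nat.sub_ne_zero_of_lt (Finset.mem_range.mp hi)) (hpa i))
    exact (Submodule.add_mem_iff_right _ (Submodule.mem_sup_right hsum)).mp (Submodule.mem_sup_left hann)
  obtain ⟨N, hN⟩ := Ideal.exists_pow_le_of_le_radical_of_fg hrad (IsNoetherian.noetherian _)
  have := finite_quotient_pow A B c N
  let ψ : (B ⧸ c ^ N) →ₗ[A] ((B ⧸ Module.annihilator B M) ⧸
      (maximalIdeal A • ⊤ : Submodule A (B ⧸ Module.annihilator B M))) :=
    Submodule.liftQ ((c ^ N).restrictScalars A)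
      ((Submodule.mkQ _).comp ((Submodule.mkQ (Module.annihilator B M)).restrictScalars A)) (fun b hb => by
        obtain ⟨x, hx, y, hy, rfl⟩ := Submodule.mem_sup.mp (hN hb)
        rw [LinearMap.mem_ker, map_add]
        refine (congrArg₂ (· + ·) ?_ ?_).trans (add_zero 0)
        · rw [LinearMap.comp_apply, LinearMap.restrictScalars_apply, Submodule.mkQ_apply (Module.annihilator B M),
            (Submodule.Quotient.mk_eq_zero _).mpr hx, map_zero]
        · refine (Submodule.Quotient.mk_eq_zero _).mpr ?_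
          have hy' : y ∈ (maximalIdeal A • ⊤ : Submodule A B) := by
            rw [Ideal.smul_top_eq_map]; exact hy
          have := Submodule.mem_map_of_mem (f := (Submodule.mkQ (Module.annihilator B M)).restrictScalars A) hy'
          rw [Submodule.map_smul''] at this
          exact Submodule.smul_mono le_rfl le_top this) |>.comp
      (Submodule.Quotient.restrictScalarsEquiv A (c ^ N)).symm.toLinearMap
  refine Module.Finite.of_surjective ψ fun z => ?_
  obtain ⟨z, rfl⟩ := Submodule.Quotient.mk_surjective _ z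
  obtain ⟨b, rfl⟩ := Submodule.Quotient.mk_surjective _ z
  exact ⟨Submodule.Quotient.mk b, rfl⟩

end QuasiFinite

open TensorProduct in
theorem le_jacobson_tfae (A : Type u) [CommRing A] [IsNoetherianRing A] (I : Ideal A) :
    List.TFAE [I ≤ (⊥ : Ideal A).jacobson,
      Module.FaithfullyFlat A (AdicCompletion I A),
      ∀ (M : Type u) [AddCommGroup M] [Module A M], Module.Finite A M → IsHausdorff I M,
      ∀ (M : Type u) [AddCommGroup M] [Module A M], Module.Finite A M →
        ∀ P : Submodule A M, (⨅ n : ℕ, P ⊔ I ^ n • (⊤ : Submodule A M)) = P] := by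
  tfae_have 1 → 2 := fun h => by
    refine Module.FaithfullyFlat.iff_flat_and_proper_ideal A _ |>.mpr ⟨inferInstance, fun J hJ htop => ?_⟩
    obtain ⟨m, hm, hJm⟩ := Ideal.exists_le_maximal J hJ
    have hIm : I ≤ m := h.trans (by rw [Ideal.jacobson]; exact sInf_le ⟨bot_le, hm⟩)
    let ev : AdicCompletion I A →ₗ[A] A ⧸ (I ^ 1 • ⊤ : Submodule A A) := AdicCompletion.eval I A 1
    let e' : (A ⧸ (I ^ 1 • ⊤ : Submodule A A)) →ₗ[A] A ⧸ m :=
      Submodule.factor (by rw [pow_one, smul_eq_mul, Ideal.mul_top]; exact hIm)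
    have h1 : (1 : AdicCompletion I A) ∈ J • (⊤ : Submodule A (AdicCompletion I A)) := by rw [htop]; trivial
    have h2 := Submodule.mem_map_of_mem (f := e'.comp ev) h1
    rw [Submodule.map_smul''] at h2
    have h3 : (Submodule.Quotient.mk (1 : A) : A ⧸ m) ∈ J • (⊤ : Submodule A (A ⧸ m)) :=
      Submodule.smul_mono le_rfl le_top h2
    have h4 : J • (⊤ : Submodule A (A ⧸ m)) = ⊥ := le_bot_iff.mp <| Submodule.smul_le.mpr fun r hr q _ => by
      obtain ⟨q, rfl⟩ := Submodule.Quotient.mk_surjective _ q
      rw [Submodule.mem_bot, ← Submodule.Quotient.mk_smul, Submodule.Quotient.mk_eq_zero]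
      exact Ideal.mul_mem_right _ _ (hJm hr)
    rw [h4, Submodule.mem_bot, Submodule.Quotient.mk_eq_zero] at h3
    exact hm.ne_top ((Ideal.eq_top_iff_one m).mpr h3)
  tfae_have 2 → 3 := fun h M _ _ _ => by
    refine AdicCompletion.of_injective_iff.mp fun x y hxy => ?_
    have hb := AdicCompletion.ofTensorProduct_bijective_of_finite_of_isNoetherian I M
    refine Module.FaithfullyFlat.tensorProduct_mk_injective (A := A) (B := AdicCompletion I A) M (hb.1 ?_)
    show AdicCompletion.ofTensorProduct I M ((1 : AdicCompletion I A) ⊗ₜ[A] x) =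
      AdicCompletion.ofTensorProduct I M ((1 : AdicCompletion I A) ⊗ₜ[A] y)
    rw [AdicCompletion.ofTensorProduct_tmul, AdicCompletion.ofTensorProduct_tmul, hxy]
  tfae_have 3 → 4 := fun h M _ _ _ P => by
    refine le_antisymm (fun x hx => ?_) (le_iInf fun n => le_sup_left)
    rw [← Submodule.Quotient.mk_eq_zero P]
    refine (h (M ⧸ P) inferInstance).haus' _ fun n => SModEq.zero.mpr ?_
    obtain ⟨p, hp, q, hq, rfl⟩ := Submodule.mem_sup.mp (Submodule.mem_iInf _ |>.mp hx n)
    rw [Submodule.Quotient.mk_add, (Submodule.Quotient.mk_eq_zero P).mpr hp, zero_add]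
    have := Submodule.mem_map_of_mem (f := P.mkQ) hq
    rw [Submodule.map_smul''] at this
    exact Submodule.smul_mono le_rfl le_top this
  tfae_have 4 → 1 := fun h => by
    rw [Ideal.jacobson]
    refine le_sInf fun m ⟨_, hm⟩ => ?_
    by_contra hIm
    have := h A inferInstance m
    refine hm.ne_top (top_le_iff.mp (this.symm ▸ le_iInf fun n => ?_))
    rw [smul_eq_mul, Ideal.mul_top]
    by_contra hne
    have hle : m ⊔ I ^ n = m := (hm.eq_of_le (fun h' => hne h'.ge) le_sup_left).symm
    exact hIm (hm.isPrime.le_of_pow_le (sup_eq_left.mp hle))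
  tfae_finish

theorem isArtinianRing_of_directed (B : Type u) [CommRing B] [IsNoetherianRing B]
    {ι : Type v} [Nonempty ι] (C : ι → Subring B)
    (hart : ∀ i, IsArtinianRing ↥(C i)) (hcov : ∀ b : B, ∃ i, b ∈ C i) : IsArtinianRing B := by
  refine isArtinianRing_iff_krullDimLE_zero.mpr (Ring.KrullDimLE.mk₀ fun q hq => ?_)
  obtain ⟨m, hm, hle⟩ := Ideal.exists_le_maximal q hq.ne_top
  suffices q = m from this ▸ hm
  refine le_antisymm hle fun b hb => ?_
  obtain ⟨i, hi⟩ := hcov b
  have := hart i
  have h1 : (q.comap (C i).subtype).IsMaximal := by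
    have : (q.comap (C i).subtype).IsPrime := hq.comap _
    exact IsArtinianRing.isMaximal_of_isPrime _
  have h2 := h1.eq_of_le (hm.isPrime.comap (C i).subtype).ne_top (Ideal.comap_mono hle)
  have h3 : (⟨b, hi⟩ : C i) ∈ m.comap (C i).subtype := hb
  rw [← h2] at h3
  exact h3

theorem exists_dense_mvPolynomial (A : Type u) [CommRing A] (B : Type u) [CommRing B] [Algebra A B]
    [IsNoetherianRing B] (J : Ideal B) (hft : Algebra.FiniteType A (B ⧸ J.radical)) :
    ∃ s : ℕ, ∃ b : Fin s → B, ∀ (y : B) (n : ℕ), ∃ p : MvPolynomial (Fin s) A, y - MvPolynomial.aeval b p ∈ J ^ n := by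
  classical
  obtain ⟨F, hF⟩ := hft.out
  choose l hl using fun z : F => Ideal.Quotient.mk_surjective (z : B ⧸ J.radical)
  obtain ⟨T, hT⟩ := IsNoetherian.noetherian J.radical
  let b : Fin (Fintype.card (F ⊕ T)) → B := fun i => Sum.elim l (fun t : T => (t : B)) ((Fintype.equivFin (F ⊕ T)).symm i)
  refine ⟨_, b, ?_⟩
  let S : Subalgebra A B := (MvPolynomial.aeval b : MvPolynomial _ A →ₐ[A] B).range
  have hb : ∀ z, Sum.elim l (fun t : T => (t : B)) z ∈ S := fun z =>
    ⟨MvPolynomial.X (Fintype.equivFin (F ⊕ T) z), by simp [b]⟩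
  have hT' : ∀ t ∈ T, t ∈ S := fun t ht => hb (Sum.inr ⟨t, ht⟩)
  have h0 : ∀ y : B, ∃ s ∈ S, y - s ∈ J.radical := fun y => by
    have hle : Algebra.adjoin A (F : Set (B ⧸ J.radical)) ≤ S.map (Ideal.Quotient.mkₐ A J.radical) :=
      Algebra.adjoin_le fun z hz => ⟨l ⟨z, hz⟩, hb (Sum.inl ⟨z, hz⟩), hl ⟨z, hz⟩⟩
    obtain ⟨s, hs, e⟩ := hle (hF ▸ Algebra.mem_top (x := Ideal.Quotient.mk J.radical y))
    exact ⟨s, hs, Ideal.Quotient.eq.mp e.symm⟩
  set K := J.radical with hK
  have key : ∀ n, ∀ x ∈ K ^ n, ∃ s ∈ S, s ∈ K ^ n ∧ x - s ∈ K ^ (n + 1) := by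
    intro n
    induction n with
    | zero =>
      intro x _
      obtain ⟨s, hs, hs'⟩ := h0 x
      exact ⟨s, hs, by simp, by simpa using hs'⟩
    | succ n ih =>
      intro x hx
      rw [pow_succ] at hx
      refine Submodule.mul_induction_on hx (fun a ha c hc => ?_) (fun p q hp hq => ?_)
      · rw [← hT] at hc
        induction hc using Submodule.span_induction generalizing a with
        | mem t ht =>
          obtain ⟨s, hs, hs1, hs2⟩ := ih a ha
          have htK : t ∈ K := hT ▸ Submodule.subset_span ht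
          refine ⟨s * t, S.mul_mem hs (hT' t ht), by rw [pow_succ]; exact Ideal.mul_mem_mul hs1 htK, ?_⟩
          rw [← sub_mul, pow_succ]
          exact Ideal.mul_mem_mul hs2 htK
        | zero => exact ⟨0, S.zero_mem, zero_mem _, by simp⟩
        | add p q _ _ hp hq =>
          obtain ⟨s, hs, hs1, hs2⟩ := hp a ha
          obtain ⟨s', hs', hs1', hs2'⟩ := hq a ha
          refine ⟨s + s', S.add_mem hs hs', add_mem hs1 hs1', ?_⟩
          rw [mul_add, add_sub_add_comm]
          exact add_mem hs2 hs2'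
        | smul r p _ hp =>
          obtain ⟨s, hs, hs1, hs2⟩ := hp (a * r) (Ideal.mul_mem_right _ _ ha)
          exact ⟨s, hs, hs1, by rwa [smul_eq_mul, ← mul_assoc]⟩
      · obtain ⟨s, hs, hs1, hs2⟩ := hp
        obtain ⟨s', hs', hs1', hs2'⟩ := hq
        refine ⟨s + s', S.add_mem hs hs', add_mem hs1 hs1', ?_⟩
        rw [add_sub_add_comm]
        exact add_mem hs2 hs2'
  have all : ∀ n y, ∃ s ∈ S, y - s ∈ K ^ n := by
    intro n
    induction n with
    | zero => exact fun y => ⟨0, S.zero_mem, by simp⟩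
    | succ n ih =>
      intro y
      obtain ⟨s, hs, hs'⟩ := ih y
      obtain ⟨s', hs1, -, hs2⟩ := key n _ hs'
      exact ⟨s + s', S.add_mem hs hs1, by rwa [← sub_sub]⟩
  obtain ⟨N, hN⟩ := J.exists_radical_pow_le_of_fg (IsNoetherian.noetherian _)
  intro y n
  obtain ⟨s, ⟨p, rfl⟩, hs⟩ := all (N * n) y
  refine ⟨p, ?_⟩
  have hle : K ^ (N * n) ≤ J ^ n := by rw [pow_mul]; exact Ideal.pow_right_mono hN n
  exact hle hs

end Groth.Agent.Adic7
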